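import Groth.Agent.Lib.Ref1.Connected
import Groth.Agent.Lib.Chev28.ConnValuation
import Groth.Agent.Lib.RatSing29.FiniteModel
import Groth.Agent.Lib.NormalHom.Connected
import Groth.Agent.Lib.Excellent.NorFiniteType
import Groth.Agent.Lib.RegLoc.Normal
import Groth.Prelude.Def_EGA4b

/-!
# Global sections of normal Noetherian schemes
-/

set_option autoImplicit false
set_option linter.all false
set_option backward.isDefEq.respectTransparency false

universe u

open CategoryTheory CategoryTheory.Limits AlgebraicGeometry TopologicalSpace Opposite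

noncomputable section

namespace GrothLib.CplNormal29

theorem exists_section_of_clopen {Y : Scheme.{u}} (C : Set Y) (hC : IsClopen C) :
    ∃ e : Γ(Y, ⊤), (∀ x ∈ C, Y.presheaf.germ ⊤ x trivial e = 1) ∧ (∀ x ∉ C, Y.presheaf.germ ⊤ x trivial e = 0) := by
  classical
  let U : Bool → Y.Opens := fun b => if b then ⟨C, hC.2⟩ else ⟨Cᶜ, hC.1.isOpen_compl⟩
  let s : ∀ b, Γ(Y, U b) := fun b => if b then 1 else 0
  obtain ⟨e, he, -⟩ := Y.sheaf.existsUnique_gluing' U ⊤ (fun b => homOfLE le_top)
    (fun x _ => Opens.mem_iSup.2 (by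
      by_cases hx : x ∈ C
      · exact ⟨true, hx⟩
      · exact ⟨false, hx⟩)) s fun i j => by
    cases i <;> cases j
    · rfl
    · exact (Subsingleton.elim (h := CommRingCat.subsingleton_of_isTerminal
        (Y.sheaf.isTerminalOfEqEmpty (Opens.ext (Set.compl_inter_self C)))) _ _)
    · exact (Subsingleton.elim (h := CommRingCat.subsingleton_of_isTerminal
        (Y.sheaf.isTerminalOfEqEmpty (Opens.ext (Set.inter_compl_self C)))) _ _)
    · rfl
  refine ⟨e, fun x hx => ?_, fun x hx => ?_⟩
  · have h : Y.presheaf.map (homOfLE (le_top : U true ≤ ⊤)).op e = 1 := he true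
    rw [← TopCat.Presheaf.germ_res_apply Y.presheaf (homOfLE (le_top : U true ≤ ⊤)) x hx e, h, map_one]
  · have h : Y.presheaf.map (homOfLE (le_top : U false ≤ ⊤)).op e = 0 := he false
    rw [← TopCat.Presheaf.germ_res_apply Y.presheaf (homOfLE (le_top : U false ≤ ⊤)) x hx e, h, map_zero]

/-- The global sections of a normal Noetherian scheme form a normal ring. -/
theorem isNormalRing_sections (Y : Scheme.{u}) [IsNoetherian Y] (hY : Pi1.IsNormalScheme Y) :
    EGA4.IsNormalRing Γ(Y, ⊤) := by
  classical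
  intro p _
  haveI := GrothLib.Chev28.finite_connectedComponents Y
  haveI := Fintype.ofFinite (_root_.ConnectedComponents Y)
  have hcl : ∀ c : _root_.ConnectedComponents Y, IsClopen (ConnectedComponents.mk ⁻¹' {c} : Set Y) := fun c => by
    obtain ⟨x, rfl⟩ := ConnectedComponents.surjective_coe c
    rw [connectedComponents_preimage_singleton]
    exact GrothLib.Chev28.isClopen_connectedComponent_of_finite x
  choose e he1 he0 using fun c => exists_section_of_clopen _ (hcl c)
  have hsum : ∑ c, e c = 1 := TopCat.Presheaf.section_ext Y.sheaf ⊤ _ _ fun x hx => by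
    show Y.presheaf.germ ⊤ x trivial (∑ c, e c) = Y.presheaf.germ ⊤ x trivial 1
    rw [map_sum, map_one, Finset.sum_eq_single (ConnectedComponents.mk x) (fun c _ hc => he0 c x fun h => hc h.symm)
      (fun h => absurd (Finset.mem_univ _) h)]
    exact he1 _ x rfl
  obtain ⟨c, hc⟩ : ∃ c, e c ∉ p := by
    by_contra h
    push Not at h
    exact ‹p.IsPrime›.ne_top (p.eq_top_iff_one.2 (hsum ▸ p.sum_mem fun c _ => h c))
  let V : Y.Opens := Y.basicOpen (e c)
  have hV : (V : Set Y) = ConnectedComponents.mk ⁻¹' {c} := by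
    ext x
    show x ∈ Y.basicOpen (e c) ↔ _
    refine Iff.trans (RingedSpace.mem_basicOpen Y.toLocallyRingedSpace.toRingedSpace (e c) x trivial) ?_
    by_cases hx : x ∈ (ConnectedComponents.mk ⁻¹' {c} : Set Y)
    · exact iff_of_true ((he1 c x hx).symm ▸ isUnit_one) hx
    · refine iff_of_false (fun h => ?_) hx
      rw [show Y.presheaf.germ ⊤ x trivial (e c) = 0 from he0 c x hx] at h
      exact not_isUnit_zero h
  haveI : ConnectedSpace V := by
    obtain ⟨x, hx⟩ := ConnectedComponents.surjective_coe c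
    refine isConnected_iff_connectedSpace.1 ?_
    rw [hV, ← hx, connectedComponents_preimage_singleton]
    exact isConnected_connectedComponent
  haveI : IsNoetherian V.toScheme := by
    haveI : IsLocallyNoetherian V.toScheme := isLocallyNoetherian_of_isOpenImmersion V.ι
    haveI : CompactSpace V.toScheme := isCompact_iff_compactSpace.1 (NoetherianSpace.isCompact _)
    constructor
  have hVn : Pi1.IsNormalScheme V.toScheme := fun z => by
    obtain ⟨h1, h2⟩ := hY (V.ι z)
    let φ := (asIso (V.ι.stalkMap z)).commRingCatIsoToRingEquiv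
    exact ⟨φ.symm.toMulEquiv.isDomain, IsIntegrallyClosed.of_equiv φ⟩
  haveI : IsIntegral V.toScheme := GrothLib.Ref1.isIntegral_of_connected fun z => (hVn z).1
  haveI : Nonempty (⊤ : V.toScheme.Opens) := ⟨⟨genericPoint V.toScheme, trivial⟩⟩
  haveI := GrothLib.RatSing29.isIntegrallyClosed_sections hVn (⊤ : V.toScheme.Opens)
  let φ : Γ(V.toScheme, ⊤) ≃+* Γ(Y, V) := V.topIso.commRingCatIsoToRingEquiv
  have hn : EGA4.IsNormalRing Γ(Y, V) :=
    GrothLib.Excellent.isNormalRing_congr φ (GrothLib.NormalHom.isNormalRing_of_isDomain _)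
  letI : Algebra Γ(Y, ⊤) Γ(Y, V) := (Y.presheaf.map (homOfLE (le_top : V ≤ ⊤)).op).hom.toAlgebra
  haveI : IsLocalization.Away (e c) Γ(Y, V) :=
    isLocalization_basicOpen_of_qcqs isCompact_univ (IsQuasiSeparated.of_quasiSeparatedSpace _) (e c)
  have hd : Disjoint (Submonoid.powers (e c) : Set Γ(Y, ⊤)) p := Set.disjoint_left.2 fun a ⟨n, hn⟩ ha =>
    hc (‹p.IsPrime›.mem_of_pow_mem n (show (e c) ^ n ∈ p from (show (e c) ^ n = a from hn).symm ▸ ha))
  let q : Ideal Γ(Y, V) := p.map (algebraMap Γ(Y, ⊤) Γ(Y, V))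
  haveI hq : q.IsPrime := IsLocalization.isPrime_of_isPrime_disjoint (Submonoid.powers (e c)) _ p ‹_› hd
  haveI : IsLocalization.AtPrime (Localization.AtPrime q) p := by
    have h := IsLocalization.isLocalization_isLocalization_atPrime_isLocalization (Submonoid.powers (e c))
      (Localization.AtPrime q) q
    simpa only [q, IsLocalization.comap_map_of_isPrime_disjoint (Submonoid.powers (e c)) _ ‹p.IsPrime› hd] using h
  obtain ⟨h1, h2⟩ := hn q
  let ψ := (IsLocalization.algEquiv p.primeCompl (Localization.AtPrime q) (Localization.AtPrime p)).toRingEquiv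
  exact ⟨ψ.symm.toMulEquiv.isDomain, IsIntegrallyClosed.of_equiv ψ⟩

end GrothLib.CplNormal29
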