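import Groth.Agent.Lib.CplNormal29.Basic
import Groth.Agent.Lib.CplNormal29.GlobalSections
import Groth.Agent.Lib.Stein.Finite
import Groth.Agent.S1597
import Groth.Agent.S1600

/-!
# Completions of normalizations of rings with regular alterations
-/

set_option autoImplicit false
set_option linter.all false
set_option backward.isDefEq.respectTransparency false

universe u

open CategoryTheory CategoryTheory.Limits AlgebraicGeometry TopologicalSpace Opposite IsLocalRing
open scoped TensorProduct

noncomputable section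

namespace GrothLib.CplNormal29

variable {A : Type u} [CommRing A] [IsLocalRing A] [IsNoetherianRing A]
  {X : Scheme.{u}} (f : X ⟶ Spec (CommRingCat.of A))

/-- The structure algebra of the global sections. -/
@[reducible] def algSections : Algebra A Γ(X, ⊤) :=
  ((Scheme.ΓSpecIso (CommRingCat.of A)).inv ≫ f.appTop).hom.toAlgebra

/-- Global sections commute with completion of the base. -/
theorem exists_tensor_sections [IsProper f] :
    letI := algSections f
    Nonempty ((Curv2.cpl A ⊗[A] Γ(X, ⊤)) ≃+* Γ(Curv2.bcCpl A f, ⊤)) := by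
  letI := algSections f
  let s := Spec.map (CommRingCat.ofHom (algebraMap A (Curv2.cpl A)))
  haveI : CompactSpace X := QuasiCompact.compactSpace_of_compactSpace f
  haveI : QuasiSeparatedSpace X := quasiSeparatedSpace_of_quasiSeparated f
  haveI : Flat s := by
    rw [HasRingHomProperty.Spec_iff (P := @Flat)]
    exact RingHom.flat_algebraMap_iff.mpr (AdicCompletion.flat_of_isNoetherian _)
  have hK := IsPullback.of_hasPullback f s
  have hP : IsPushout (f.appLE ⊤ ⊤ le_top) (s.appLE ⊤ ⊤ le_top) ((pullback.fst f s).appLE ⊤ ⊤ le_top)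
      ((pullback.snd f s).appLE ⊤ ⊤ le_top) :=
    (AlgebraicGeometry.isIso_pushoutSection_iff hK (US := ⊤) (UT := ⊤) (UX := ⊤) (UY := ⊤) le_top le_top
      (by simp)).1 (isIso_pushoutSection_of_isQuasiSeparated_of_flat_right hK _ _ _
        (isAffineOpen_top _) (isAffineOpen_top _) isCompact_univ (IsQuasiSeparated.of_quasiSeparatedSpace _))
  have hP' : IsPushout (CommRingCat.ofHom (algebraMap A Γ(X, ⊤))) (CommRingCat.ofHom (algebraMap A (Curv2.cpl A)))
      ((pullback.fst f s).appLE ⊤ ⊤ le_top)
      ((Scheme.ΓSpecIso (CommRingCat.of (Curv2.cpl A))).inv ≫ (pullback.snd f s).appLE ⊤ ⊤ le_top) := by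
    refine hP.of_iso (Scheme.ΓSpecIso _) (Iso.refl _) (Scheme.ΓSpecIso _) (Iso.refl _) ?_ ?_ ?_ ?_
    · rw [Iso.refl_hom, Category.comp_id, show f.appLE ⊤ ⊤ le_top = f.appTop from Scheme.Hom.appLE_eq_app _]
      exact (Iso.hom_inv_id_assoc _ _).symm
    · rw [show s.appLE ⊤ ⊤ le_top = s.appTop from Scheme.Hom.appLE_eq_app _]
      exact Scheme.ΓSpecIso_naturality _
    · simp
    · simp
  exact ⟨(Algebra.TensorProduct.comm A (Curv2.cpl A) Γ(X, ⊤)).toRingEquiv.trans
    (((CommRingCat.isPushout_tensorProduct A Γ(X, ⊤) (Curv2.cpl A)).isoIsPushout _ _ hP').commRingCatIsoToRingEquiv)⟩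

theorem isNormalRing_completion [IsDomain A] (hf : Curv2.IsAlteration f)
    (hreg : ∀ x : X, IsRegularLocalRing (X.presheaf.stalk x)) :
    EGA4.IsNormalRing (AdicCompletion ((maximalIdeal A).map
      (algebraMap A (integralClosure A (FractionRing A)))) (integralClosure A (FractionRing A))) := by
  let B := integralClosure A (FractionRing A)
  haveI hBfin : Module.Finite A B := (Groth.Agent.S1600.result A X f hf hreg).1
  obtain ⟨hp, hX, -, hd, -⟩ := hf
  haveI := hp; haveI := hX; haveI := hd
  letI := algSections f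
  haveI : IsNoetherianRing B := IsNoetherianRing.of_finite A B
  haveI hCfin : Module.Finite A Γ(X, ⊤) := GrothLib.Stein.finite_toGlobal A f
  have hXn : Pi1.IsNormalScheme X := fun x => by
    haveI := hreg x
    exact ⟨inferInstance, GrothLib.RegLoc.isIntegrallyClosed_of_isRegularLocalRing _⟩
  have hgen : f (genericPoint X) = genericPoint (Spec (CommRingCat.of A)) := by
    have h := (genericPoint_spec X).image f.continuous
    rw [Set.image_univ, f.denseRange.closure_range] at h
    exact h.eq (genericPoint_spec _)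
  let γ : Γ(X, ⊤) →+* X.functionField := (X.presheaf.germ ⊤ (genericPoint X) trivial).hom
  have hγ : Function.Injective γ := germ_injective_of_isIntegral X (U := ⊤) (genericPoint X) trivial
  letI : Algebra A X.functionField := (γ.comp (algebraMap A Γ(X, ⊤))).toAlgebra
  have hA : ∀ a : A, a ≠ 0 → algebraMap A X.functionField a ≠ 0 := fun a ha => by
    show X.presheaf.germ ⊤ (genericPoint X) trivial (Coh.toGlobal f a) ≠ (0 : X.functionField)
    rw [← isUnit_iff_ne_zero, ← RingedSpace.mem_basicOpen _ (Coh.toGlobal f a : Γ(X, ⊤)) (genericPoint X) trivial]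
    show genericPoint X ∈ X.basicOpen (f.app ⊤ ((Scheme.ΓSpecIso (CommRingCat.of A)).inv a))
    rw [← Scheme.preimage_basicOpen, Scheme.Hom.mem_preimage, basicOpen_eq_of_affine', hgen]
    show (genericPoint (Spec (CommRingCat.of A)) : PrimeSpectrum A) ∈ PrimeSpectrum.basicOpen _
    rw [PrimeSpectrum.mem_basicOpen,
      show (Scheme.ΓSpecIso (CommRingCat.of A)).hom ((Scheme.ΓSpecIso (CommRingCat.of A)).inv a) = a from
        (Scheme.ΓSpecIso (CommRingCat.of A)).commRingCatIsoToRingEquiv.apply_symm_apply a,
      genericPoint_eq_bot_of_affine]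
    exact ha
  have hinjA : Function.Injective (algebraMap A X.functionField) := (injective_iff_map_eq_zero _).2 fun a ha => by
    by_contra h
    exact hA a h ha
  haveI : FaithfulSMul A X.functionField := (faithfulSMul_iff_algebraMap_injective A X.functionField).2 hinjA
  let ψ : FractionRing A →ₐ[A] X.functionField := IsFractionRing.liftAlgHom (g := Algebra.ofId A X.functionField) hinjA
  have hex : ∀ b : B, ∃ c : Γ(X, ⊤), γ c = ψ b := fun b => by
    refine GrothLib.Stein.exists_section_of_mem_stalks (U := (⊤ : X.Opens)) (x₀ := genericPoint X) trivial (ψ b) fun z hz => ?_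
    haveI := (hXn z).2
    let gz := (X.presheaf.germ ⊤ z trivial).hom.comp (algebraMap A Γ(X, ⊤))
    have hcomp : (algebraMap (X.presheaf.stalk z) X.functionField).comp gz = algebraMap A X.functionField := by
      ext a
      exact TopCat.Presheaf.germ_stalkSpecializes_apply X.presheaf (show z ∈ (⊤ : X.Opens) from trivial)
        (genericPoint_specializes z) (algebraMap A Γ(X, ⊤) a)
    obtain ⟨P, hPm, hP⟩ := b.2.map ψ
    have hint : IsIntegral (X.presheaf.stalk z) (ψ b) := by
      refine ⟨P.map gz, hPm.map _, ?_⟩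
      rw [Polynomial.eval₂_map, hcomp]
      exact hP
    exact IsIntegrallyClosed.algebraMap_eq_of_integral hint
  choose β hβ using hex
  let βh : B →ₐ[A] Γ(X, ⊤) :=
    { toFun := β
      map_one' := hγ (by rw [hβ, map_one, Subalgebra.coe_one, map_one])
      map_mul' := fun a b => hγ (by rw [hβ, map_mul, hβ, hβ, Subalgebra.coe_mul, map_mul])
      map_zero' := hγ (by rw [hβ, map_zero, Subalgebra.coe_zero, map_zero])
      map_add' := fun a b => hγ (by rw [hβ, map_add, hβ, hβ, Subalgebra.coe_add, map_add])
      commutes' := fun a => hγ (by rw [hβ, Subalgebra.coe_algebraMap, AlgHom.commutes]; rfl) }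
  letI : Algebra B Γ(X, ⊤) := βh.toRingHom.toAlgebra
  haveI : IsScalarTower A B Γ(X, ⊤) := IsScalarTower.of_algebraMap_eq fun a => (βh.commutes a).symm
  haveI : Module.Finite B Γ(X, ⊤) := Module.Finite.of_restrictScalars_finite A B Γ(X, ⊤)
  have hinj : Function.Injective (algebraMap B Γ(X, ⊤)) := fun a b h => Subtype.ext ((ψ : FractionRing A →+* X.functionField).injective
    ((hβ a).symm.trans ((congrArg γ h).trans (hβ b))))
  haveI : IsIntegrallyClosed B := integralClosure.isIntegrallyClosedOfFiniteExtension (FractionRing A)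
  refine isNormalRing_completion_of_sub (C := Γ(X, ⊤)) _ hinj (GrothLib.NormalHom.isNormalRing_of_isDomain B) ?_
  rw [Ideal.map_map, ← IsScalarTower.algebraMap_eq]
  obtain ⟨e₁⟩ := exists_ringEquiv (B := A) (C := Γ(X, ⊤)) (maximalIdeal A)
  obtain ⟨e₂⟩ := exists_tensor_sections f
  let Y := Curv2.bcCpl A f
  haveI : IsNoetherianRing (Curv2.cpl A) := inferInstance
  haveI : IsProper (Curv2.bcCplSnd A f) := inferInstance
  haveI : IsLocallyNoetherian Y := LocallyOfFiniteType.isLocallyNoetherian (Curv2.bcCplSnd A f)
  haveI : CompactSpace Y := QuasiCompact.compactSpace_of_compactSpace (Curv2.bcCplSnd A f)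
  haveI : IsNoetherian Y := by constructor
  have hYn : Pi1.IsNormalScheme Y := fun y => by
    haveI : IsRegularLocalRing (Y.presheaf.stalk y) := (Groth.Agent.S1597.result A X f).1 hreg y
    haveI := GrothLib.CMFree.isDomain_of_isRegularLocalRing (Y.presheaf.stalk y)
    exact ⟨inferInstance, GrothLib.RegLoc.isIntegrallyClosed_of_isRegularLocalRing _⟩
  exact GrothLib.Excellent.isNormalRing_congr (e₁.trans e₂).symm (isNormalRing_sections Y hYn)

end GrothLib.CplNormal29
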