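import Groth.Agent.Lib.GRingFT.Main
import Groth.Agent.Lib.GRingComplete.Main
import Groth.Agent.Lib.NormalHom.Basic
import Groth.Agent.Lib.NormalHom.Connected
import Groth.Agent.Lib.NormalTensor.Criterion
import Groth.Agent.Lib.FibProp5.Normal
import Groth.Agent.Lib.Ratliff.Completion
import Groth.Agent.Lib.Excellent.NorFiniteType
import Groth.Agent.Lib.Excellent.Localization
import Groth.Agent.Lib.AdicExtra.Completion
import Groth.Agent.Lib.N2.LocalCriterion
import Groth.Agent.Lib.CTensor.Ext
import Groth.Prelude.Def_Curv2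

/-!
# Analytic normality of finite type algebras over a discrete valuation ring
-/

set_option autoImplicit false
set_option linter.all false

universe u

open IsLocalRing
open scoped TensorProduct

noncomputable section

namespace GrothLib.CplNormal29

/-- Completions of normal local rings of G-rings are normal domains. -/
theorem normal_cpl_of_isGRing {T : Type u} [CommRing T] (hG : CAlg.IsGRing T) (hn : EGA4.IsNormalRing T)
    (q : Ideal T) [q.IsPrime] :
    IsDomain (Curv2.cpl (Localization.AtPrime q)) ∧ IsIntegrallyClosed (Curv2.cpl (Localization.AtPrime q)) := by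
  haveI := hG.1
  obtain ⟨h1, h2⟩ := hn q
  haveI := h1; haveI := h2
  haveI : IsNoetherianRing (Localization.AtPrime q) := IsLocalization.isNoetherianRing q.primeCompl _ inferInstance
  have hf := GrothLib.NormalHom.isNormalHom_of_isRegularHom (hG.2 q)
  haveI := hf.1
  refine GrothLib.FibProp5.domain_of_isNormalRing _ ?_
  refine GrothLib.NormalHom.isNormalRing_of_flat_of_fibres (A := Localization.AtPrime q)
    (GrothLib.NormalHom.isNormalRing_of_isDomain _) fun P _ => ?_
  have h := hf.2 P P.ResidueField inferInstance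
  exact GrothLib.Excellent.isNormalRing_congr (Algebra.TensorProduct.lid P.ResidueField _).toRingEquiv h

/-- Transport along an isomorphism of local rings. -/
theorem normal_cpl_congr {O O' : Type u} [CommRing O] [CommRing O'] [IsLocalRing O] [IsLocalRing O']
    [IsNoetherianRing O] (e : O ≃+* O') (h : IsDomain (Curv2.cpl O) ∧ IsIntegrallyClosed (Curv2.cpl O)) :
    IsDomain (Curv2.cpl O') ∧ IsIntegrallyClosed (Curv2.cpl O') := by
  haveI : IsNoetherianRing O' := isNoetherianRing_of_ringEquiv O e
  obtain ⟨φ⟩ := GrothLib.Ratliff.exists_completion_congr e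
  haveI := h.1; haveI := h.2
  exact ⟨φ.symm.toMulEquiv.isDomain, IsIntegrallyClosed.of_equiv φ⟩

section DVR

variable {R : Type u} [CommRing R] [IsDomain R] [IsDiscreteValuationRing R]
  {S : Type u} [CommRing S] [IsDomain S] [IsIntegrallyClosed S] [Algebra R S] [Algebra.FiniteType R S]
  [Module.Flat R S] (hgen : EGA4.IsNormalRing (FractionRing R ⊗[R] S))
  (hcpl : EGA4.IsNormalRing (FractionRing (Curv2.cpl R) ⊗[R] S))

theorem isDomain_cpl : IsDomain (Curv2.cpl R) :=
  (GrothLib.AdicExtra.exists_dvr_adicCompletion_iff.1 ⟨inferInstance, inferInstance⟩).1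

theorem isDVR_cpl : haveI := isDomain_cpl (R := R); IsDiscreteValuationRing (Curv2.cpl R) :=
  (GrothLib.AdicExtra.exists_dvr_adicCompletion_iff.1 ⟨inferInstance, inferInstance⟩).2

attribute [local instance] isDomain_cpl isDVR_cpl

theorem exists_approx {π : R} (hπ : Irreducible π) (n : ℕ) (t : Curv2.cpl R ⊗[R] S) :
    ∃ (s : S) (t' : Curv2.cpl R ⊗[R] S), t = (1 : Curv2.cpl R) ⊗ₜ s + π ^ n • t' := by
  induction t using TensorProduct.induction_on with
  | zero => exact ⟨0, 0, by simp⟩
  | tmul c s =>
    obtain ⟨r, hr⟩ := CTensor.exists_sub_mem_pow (maximalIdeal R) (IsNoetherian.noetherian _) c n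
    have hmap : (maximalIdeal R).map (algebraMap R (Curv2.cpl R)) = Ideal.span {algebraMap R (Curv2.cpl R) π} :=
      (congrArg (Ideal.map (algebraMap R (Curv2.cpl R))) hπ.maximalIdeal_eq).trans
        (by rw [Ideal.map_span, Set.image_singleton])
    rw [hmap, Ideal.span_singleton_pow, Ideal.mem_span_singleton'] at hr
    obtain ⟨d, hd⟩ := hr
    refine ⟨r • s, d ⊗ₜ s, ?_⟩
    rw [← TensorProduct.smul_tmul, ← Algebra.algebraMap_eq_smul_one, TensorProduct.smul_tmul',
      ← TensorProduct.add_tmul, Algebra.smul_def, map_pow, mul_comm, hd, add_sub_cancel]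
  | add a b ha hb =>
    obtain ⟨s, x, rfl⟩ := ha
    obtain ⟨s', y, rfl⟩ := hb
    exact ⟨s + s', x + y, by rw [TensorProduct.tmul_add, smul_add]; abel⟩

theorem dvd_of_tmul_eq {π : R} (hπ : Irreducible π) (n : ℕ) (s : S) (t : Curv2.cpl R ⊗[R] S)
    (h : (1 : Curv2.cpl R) ⊗ₜ[R] s = π ^ n • t) : algebraMap R S (π ^ n) ∣ s := by
  let I : Ideal S := Ideal.span {algebraMap R S (π ^ n)}
  have hle : maximalIdeal R ^ n ≤ RingHom.ker ((Ideal.Quotient.mk I).comp (algebraMap R S)) := by
    rw [hπ.maximalIdeal_eq, Ideal.span_singleton_pow, Ideal.span_singleton_le_iff_mem, RingHom.mem_ker,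
      RingHom.comp_apply, Ideal.Quotient.eq_zero_iff_mem]
    exact Ideal.mem_span_singleton_self _
  let lf : R ⧸ maximalIdeal R ^ n →+* S ⧸ I :=
    Ideal.Quotient.lift (maximalIdeal R ^ n) ((Ideal.Quotient.mk I).comp (algebraMap R S)) fun a ha => hle ha
  let ρ : Curv2.cpl R →ₐ[R] S ⧸ I :=
    { lf.comp
        (AdicCompletion.evalₐ (maximalIdeal R) n).toRingHom with
      commutes' := fun r => by
        show lf (AdicCompletion.evalₐ (maximalIdeal R) n (algebraMap R (Curv2.cpl R) r)) = _
        rw [AlgHom.commutes]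
        rfl }
  let γ : Curv2.cpl R ⊗[R] S →ₐ[R] S ⧸ I :=
    Algebra.TensorProduct.lift ρ (IsScalarTower.toAlgHom R S (S ⧸ I)) fun _ _ => Commute.all _ _
  have h1 := congrArg γ h
  rw [map_smul, Algebra.TensorProduct.lift_tmul, map_one, one_mul, Algebra.smul_def,
    show algebraMap R (S ⧸ I) (π ^ n) = 0 from Ideal.Quotient.eq_zero_iff_mem.2 (Ideal.mem_span_singleton_self _),
    zero_mul] at h1
  exact Ideal.mem_span_singleton.1 (Ideal.Quotient.eq_zero_iff_mem.1 h1)

/-- The key step: no new integral fractions with denominator the uniformizer. -/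
theorem dvd_of_eval {π : R} (hπ : Irreducible π) (p : Polynomial (Curv2.cpl R ⊗[R] S)) (hp : p.Monic)
    (t : Curv2.cpl R ⊗[R] S)
    (h : ∑ i ∈ Finset.range (p.natDegree + 1),
      p.coeff i * t ^ i * algebraMap R (Curv2.cpl R ⊗[R] S) π ^ (p.natDegree - i) = 0) :
    ∃ t', t = algebraMap R (Curv2.cpl R ⊗[R] S) π * t' := by
  classical
  let T := Curv2.cpl R ⊗[R] S
  let j : S →ₐ[R] T := Algebra.TensorProduct.includeRight
  set d := p.natDegree with hd
  obtain ⟨s, t₁, ht⟩ := exists_approx hπ (d + 1) t
  choose a t₂ hat using fun i => exists_approx (S := S) hπ d (p.coeff i)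
  let P : T := algebraMap R T π
  let J : Ideal T := Ideal.span {P ^ d}
  have hj : ∀ (n : ℕ) (x : T), π ^ n • x = P ^ n * x := fun n x =>
    (Algebra.smul_def (π ^ n) x).trans (by rw [map_pow])
  have hmodt : Ideal.Quotient.mk J t = Ideal.Quotient.mk J (j s) := by
    rw [Ideal.Quotient.eq, show t - j s = P ^ (d + 1) * t₁ by rw [ht, hj]; exact add_sub_cancel_left _ _]
    exact Ideal.mem_span_singleton'.2 ⟨P * t₁, by ring⟩
  have hmoda : ∀ i, Ideal.Quotient.mk J (p.coeff i) = Ideal.Quotient.mk J (j (a i)) := fun i => by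
    rw [Ideal.Quotient.eq, show p.coeff i - j (a i) = P ^ d * t₂ i by rw [hat i, hj]; exact add_sub_cancel_left _ _]
    exact Ideal.mem_span_singleton'.2 ⟨t₂ i, by ring⟩
  let b : ℕ → S := fun i => if i = d then 1 else a i
  have hmodb : ∀ i, Ideal.Quotient.mk J (p.coeff i) = Ideal.Quotient.mk J (j (b i)) := fun i => by
    by_cases hi : i = d
    · simp only [b, if_pos hi, map_one]
      rw [hi, hp.coeff_natDegree, map_one]
    · simp only [b, if_neg hi]; exact hmoda i
  let e0 : S := ∑ i ∈ Finset.range (d + 1), b i * s ^ i * algebraMap R S π ^ (d - i)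
  have he : j e0 ∈ J := by
    rw [← Ideal.Quotient.eq_zero_iff_mem, ← map_zero (Ideal.Quotient.mk J), ← h, map_sum, map_sum, map_sum]
    refine Finset.sum_congr rfl fun i _ => ?_
    simp only [map_mul, map_pow, AlgHom.commutes, hmodt, hmodb]
    rfl
  obtain ⟨u, hu⟩ := Ideal.mem_span_singleton'.1 he
  obtain ⟨e₁, he₁⟩ := dvd_of_tmul_eq hπ d e0 u (by rw [hj]; exact (hu.symm.trans (mul_comm _ _)))
  have hinjR : Function.Injective (algebraMap R S) := by
    haveI : FaithfulSMul R S := Module.IsTorsionFree.to_faithfulSMul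
    exact FaithfulSMul.algebraMap_injective R S
  have hπS : algebraMap R S π ≠ 0 := fun h0 => hπ.ne_zero (hinjR (h0.trans (map_zero _).symm))
  by_cases hd0 : d = 0
  · -- the relation says one vanishes
    rw [hd0, Finset.sum_range_one, Nat.sub_zero, pow_zero, pow_zero, mul_one, mul_one] at h
    have h1 : p.coeff 0 = 1 := by have := hp.coeff_natDegree; rwa [← hd, hd0] at this
    rw [h1] at h
    exact ⟨0, by rw [← one_mul t, h, zero_mul, mul_zero]⟩
  have hpi : algebraMap S (FractionRing S) (algebraMap R S π) ≠ 0 := (map_ne_zero_iff _ (IsFractionRing.injective S (FractionRing S))).2 hπS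
  let x : (FractionRing S) := algebraMap S (FractionRing S) s / algebraMap S (FractionRing S) (algebraMap R S π)
  let q : Polynomial S := ∑ i ∈ Finset.range (d + 1), Polynomial.monomial i (b i) - Polynomial.C e₁
  have hcoeff : ∀ i, q.coeff i = (if i ∈ Finset.range (d + 1) then b i else 0) - (if i = 0 then e₁ else 0) := fun i => by
    rw [Polynomial.coeff_sub, Polynomial.finsetSum_coeff, Polynomial.coeff_C]
    simp [Polynomial.coeff_monomial]
  have hq : q.Monic := by
    refine Polynomial.monic_of_natDegree_le_of_coeff_eq_one d ?_ ?_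
    · refine Polynomial.natDegree_le_iff_coeff_eq_zero.2 fun m hm => ?_
      rw [hcoeff, if_neg (by rw [Finset.mem_range]; omega), if_neg (by omega), sub_zero]
    · rw [hcoeff, if_pos (Finset.self_mem_range_succ d), if_neg hd0, sub_zero]
      simp [b]
  have hint : IsIntegral S x := by
    refine ⟨q, hq, ?_⟩
    rw [Polynomial.eval₂_sub, Polynomial.eval₂_finsetSum, Polynomial.eval₂_C, sub_eq_zero]
    refine (mul_left_inj' (pow_ne_zero d hpi)).1 ?_
    rw [← map_pow, ← map_pow, ← map_mul, mul_comm e₁, ← he₁, Finset.sum_mul, map_sum]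
    refine Finset.sum_congr rfl fun i hi => ?_
    have hle : i ≤ d := Nat.lt_succ_iff.1 (Finset.mem_range.1 hi)
    rw [Polynomial.eval₂_monomial, map_mul, map_mul, map_pow, map_pow, map_pow, map_pow]
    conv_lhs => rw [← Nat.sub_add_cancel hle, pow_add]
    simp only [x, div_pow]
    field_simp
  obtain ⟨s', hs'⟩ := IsIntegrallyClosed.isIntegral_iff.1 hint
  have hs : s = algebraMap R S π * s' := IsFractionRing.injective S (FractionRing S) (by
    rw [map_mul, hs', mul_div_cancel₀ _ hpi])
  refine ⟨j s' + P ^ d * t₁, ?_⟩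
  rw [ht, hj, show ((1 : Curv2.cpl R) ⊗ₜ[R] s) = j s from rfl, hs, map_mul, AlgHom.commutes]
  ring

include hcpl in
theorem isNormalRing_tensor_cpl : EGA4.IsNormalRing (Curv2.cpl R ⊗[R] S) := by
  obtain ⟨π, hπ⟩ := IsDiscreteValuationRing.exists_irreducible R
  let T := (Curv2.cpl R) ⊗[R] S
  let Q := (FractionRing (Curv2.cpl R)) ⊗[R] S
  let φ : T →ₐ[R] Q := Algebra.TensorProduct.map (IsScalarTower.toAlgHom R (Curv2.cpl R) (FractionRing (Curv2.cpl R))) (AlgHom.id R S)
  have hφ : Function.Injective φ := Module.Flat.rTensor_preserves_injective_linearMap (M := S)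
    (IsScalarTower.toAlgHom R (Curv2.cpl R) (FractionRing (Curv2.cpl R))).toLinearMap (IsFractionRing.injective (Curv2.cpl R) (FractionRing (Curv2.cpl R)))
  haveI : IsNoetherianRing (Curv2.cpl R) := inferInstance
  haveI : Algebra.FiniteType (FractionRing (Curv2.cpl R)) Q := inferInstance
  haveI : IsNoetherianRing Q := Algebra.FiniteType.isNoetherianRing (FractionRing (Curv2.cpl R)) Q
  letI : Algebra T Q := φ.toRingHom.toAlgebra
  have hπh : Irreducible (algebraMap R (Curv2.cpl R) π) := by
    refine (IsDiscreteValuationRing.irreducible_iff_uniformizer _).2 ?_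
    exact AdicCompletion.maximalIdeal_eq_map.trans
      ((congrArg (Ideal.map (algebraMap R (Curv2.cpl R))) hπ.maximalIdeal_eq).trans
        (by rw [Ideal.map_span, Set.image_singleton]))
  let P : T := algebraMap R T π
  have hclear : ∀ z : Q, ∃ (n : ℕ) (t : T), φ P ^ n * z = φ t := by
    intro z
    induction z using TensorProduct.induction_on with
    | zero => exact ⟨0, 0, by rw [mul_zero, map_zero]⟩
    | tmul c s =>
      obtain ⟨⟨a, w⟩, hw⟩ := IsLocalization.surj (nonZeroDivisors (Curv2.cpl R)) c
      obtain ⟨n, v, hv⟩ := IsDiscreteValuationRing.eq_unit_mul_pow_irreducible (nonZeroDivisors.ne_zero w.2) hπh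
      refine ⟨n, (↑v⁻¹ * a) ⊗ₜ s, ?_⟩
      show φ P ^ n * (c ⊗ₜ[R] s) = φ ((↑v⁻¹ * a) ⊗ₜ[R] s)
      rw [show φ P = algebraMap R Q π from φ.commutes π, ← map_pow, ← Algebra.smul_def, TensorProduct.smul_tmul',
        Algebra.TensorProduct.map_tmul, AlgHom.id_apply]
      congr 1
      rw [Algebra.smul_def, IsScalarTower.toAlgHom_apply, map_mul, ← hw, map_pow,
        IsScalarTower.algebraMap_apply R (Curv2.cpl R) (FractionRing (Curv2.cpl R)), ← map_pow, hv, map_mul, mul_comm c, ← mul_assoc, ← mul_assoc,
        ← map_mul, ← map_mul, Units.inv_mul, one_mul]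
    | add a b ha hb =>
      obtain ⟨m, x, hx⟩ := ha
      obtain ⟨n, y, hy⟩ := hb
      refine ⟨m + n, P ^ n * x + P ^ m * y, ?_⟩
      rw [map_add, map_mul, map_mul, map_pow, map_pow, ← hx, ← hy, pow_add]
      ring
  have hclosed : IsIntegrallyClosedIn T Q := by
    refine ⟨hφ, fun {z} => ⟨fun hz => ?_, fun ⟨y, hy⟩ => hy ▸ isIntegral_algebraMap⟩⟩
    obtain ⟨n, t, hnt⟩ := hclear z
    induction n generalizing z t with
    | zero => exact ⟨t, by rw [pow_zero, one_mul] at hnt; exact hnt.symm⟩
    | succ n ih =>
      have hw : IsIntegral T (φ P ^ n * z) := ((isIntegral_algebraMap (x := P)).pow n).mul hz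
      obtain ⟨p, hpm, hp⟩ := hw
      have hsum : ∑ i ∈ Finset.range (p.natDegree + 1), p.coeff i * t ^ i * P ^ (p.natDegree - i) = 0 := by
        refine hφ ?_
        rw [map_zero, map_sum]
        rw [Polynomial.eval₂_eq_sum_range] at hp
        have := congrArg (fun z => φ P ^ p.natDegree * z) hp
        simp only [mul_zero] at this
        rw [Finset.mul_sum] at this
        refine Eq.trans (Finset.sum_congr rfl fun i hi => ?_) this
        have hle : i ≤ p.natDegree := Nat.lt_succ_iff.1 (Finset.mem_range.1 hi)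
        rw [map_mul, map_mul, map_pow, map_pow, ← hnt, show algebraMap T Q (p.coeff i) = φ (p.coeff i) from rfl]
        conv_rhs => rw [← Nat.sub_add_cancel hle, pow_add]
        ring
      obtain ⟨t', ht'⟩ := dvd_of_eval hπ p hpm t hsum
      refine ih hz t' ?_
      have hu : IsUnit (φ P) := by
        rw [show φ P = algebraMap R Q π from φ.commutes π, IsScalarTower.algebraMap_apply R (FractionRing (Curv2.cpl R)) Q]
        refine IsUnit.map _ (isUnit_iff_ne_zero.2 ?_)
        rw [IsScalarTower.algebraMap_apply R (Curv2.cpl R) (FractionRing (Curv2.cpl R))]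
        exact (map_ne_zero_iff _ (IsFractionRing.injective (Curv2.cpl R) (FractionRing (Curv2.cpl R)))).2 hπh.ne_zero
      refine hu.mul_left_cancel ?_
      rw [← mul_assoc, ← pow_succ', hnt, ht', map_mul]
  exact @GrothLib.NormalTensor.isNormalRing_of_isIntegrallyClosedIn T Q _ _ _ hclosed _ hcpl

include hgen hcpl in
/-- Analytic normality. -/
theorem normal_cpl_localization (P : Ideal S) [P.IsPrime] :
    IsDomain (Curv2.cpl (Localization.AtPrime P)) ∧ IsIntegrallyClosed (Curv2.cpl (Localization.AtPrime P)) := by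
  obtain ⟨π, hπ⟩ := IsDiscreteValuationRing.exists_irreducible R
  haveI : IsNoetherianRing S := Algebra.FiniteType.isNoetherianRing R S
  by_cases hP : algebraMap R S π ∈ P
  · let Rh := Curv2.cpl R
    let T := Rh ⊗[R] S
    letI : Algebra S T := Algebra.TensorProduct.rightAlgebra
    haveI : Algebra.FiniteType Rh T := inferInstance
    have hG : CAlg.IsGRing T :=
      GrothLib.GRingFT.isGRing_of_finiteType (GrothLib.GRingComplete.isGRing_of_isAdicComplete Rh) T
    have hn := isNormalRing_tensor_cpl (S := S) hcpl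
    haveI := hG.1
    -- the surjection onto the quotient
    let lf : R ⧸ maximalIdeal R →+* S ⧸ P :=
      Ideal.Quotient.lift (maximalIdeal R) ((Ideal.Quotient.mk P).comp (algebraMap R S)) (fun a ha => by
        rw [hπ.maximalIdeal_eq, Ideal.mem_span_singleton'] at ha
        obtain ⟨c, rfl⟩ := ha
        rw [RingHom.comp_apply, Ideal.Quotient.eq_zero_iff_mem, map_mul]
        exact P.mul_mem_left _ hP)
    let ρ : Rh →ₐ[R] S ⧸ P :=
      { lf.comp (AdicCompletion.evalOneₐ (maximalIdeal R)).toRingHom with
        commutes' := fun r => by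
          show lf (AdicCompletion.evalOneₐ (maximalIdeal R) (algebraMap R Rh r)) = _
          rw [AlgHom.commutes]
          rfl }
    let γ : T →ₐ[R] S ⧸ P :=
      Algebra.TensorProduct.lift ρ (IsScalarTower.toAlgHom R S (S ⧸ P)) fun _ _ => Commute.all _ _
    have hγ : ∀ s : S, γ ((1 : Rh) ⊗ₜ s) = Ideal.Quotient.mk P s := fun s => by
      rw [Algebra.TensorProduct.lift_tmul, map_one, one_mul]; rfl
    let q : Ideal T := RingHom.ker γ.toRingHom
    haveI hq : q.IsPrime := RingHom.ker_isPrime _
    have hqP : q.comap (algebraMap S T) = P := by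
      ext s
      show γ ((1 : Rh) ⊗ₜ s) = 0 ↔ s ∈ P
      rw [hγ, Ideal.Quotient.eq_zero_iff_mem]
    have hqgen : q = P.map (algebraMap S T) := by
      refine le_antisymm (fun z hz => ?_) (Ideal.map_le_iff_le_comap.2 hqP.ge)
      obtain ⟨s, t', rfl⟩ := exists_approx hπ 1 z
      have hπT : π ^ 1 • t' ∈ P.map (algebraMap S T) := by
        rw [show π ^ 1 • t' = algebraMap R T π * t' from (Algebra.smul_def (π ^ 1) t').trans (congrArg (fun a => algebraMap R T a * t') (pow_one π))]
        refine Ideal.mul_mem_right _ _ ?_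
        rw [show algebraMap R T π = algebraMap S T (algebraMap R S π) from
          ((Algebra.TensorProduct.includeRight : S →ₐ[R] T).commutes π).symm]
        exact Ideal.mem_map_of_mem _ hP
      have hπq : π ^ 1 • t' ∈ q := Ideal.map_le_iff_le_comap.2 hqP.ge hπT
      refine Ideal.add_mem _ ?_ hπT
      refine Ideal.mem_map_of_mem (algebraMap S T) (show s ∈ P from ?_)
      rw [← hqP]
      exact (Ideal.add_mem_iff_left q hπq).1 hz
    haveI : q.LiesOver P := ⟨hqP.symm⟩
    let O := Localization.AtPrime P
    let O' := Localization.AtPrime q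
    haveI : Module.Flat S T := by
      haveI : Module.Flat R Rh := AdicCompletion.flat_of_isNoetherian _
      exact Module.Flat.of_linearEquiv (Algebra.TensorProduct.commRight R S Rh).symm.toLinearEquiv
    letI : Algebra O O' := (Localization.localRingHom P q (algebraMap S T) hqP.symm).toAlgebra
    haveI : IsScalarTower S O O' := IsScalarTower.of_algebraMap_eq fun s => by
      show algebraMap S O' s = Localization.localRingHom P q (algebraMap S T) hqP.symm (algebraMap S O s)
      rw [Localization.localRingHom_to_map, ← IsScalarTower.algebraMap_apply]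
    haveI : IsLocalHom (algebraMap O O') := Localization.isLocalHom_localRingHom P q (algebraMap S T) hqP.symm
    haveI : Module.Flat S O' := Module.Flat.trans S T O'
    haveI : Module.Flat O O' := (Module.flat_iff_of_isLocalization O P.primeCompl O').mpr inferInstance
    haveI : IsNoetherianRing O := IsLocalization.isNoetherianRing P.primeCompl _ inferInstance
    haveI : IsNoetherianRing O' := IsLocalization.isNoetherianRing q.primeCompl _ inferInstance
    have hm : (maximalIdeal O).map (algebraMap O O') = maximalIdeal O' := by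
      calc (maximalIdeal O).map (algebraMap O O')
          = (P.map (algebraMap S O)).map (algebraMap O O') := by rw [Localization.AtPrime.map_eq_maximalIdeal]
        _ = P.map (algebraMap S O') := by rw [Ideal.map_map, ← IsScalarTower.algebraMap_eq]
        _ = (P.map (algebraMap S T)).map (algebraMap T O') := by rw [Ideal.map_map, ← IsScalarTower.algebraMap_eq]
        _ = q.map (algebraMap T O') := congrArg (Ideal.map (algebraMap T O')) hqgen.symm
        _ = maximalIdeal O' := Localization.AtPrime.map_eq_maximalIdeal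
    have hk : Function.Bijective (ResidueField.map (R := O) (S := O') (algebraMap O O')) := by
      refine ⟨(ResidueField.map _).injective, fun y => ?_⟩
      obtain ⟨y, rfl⟩ := residue_surjective y
      obtain ⟨⟨a, w⟩, haw⟩ := IsLocalization.surj q.primeCompl y
      have hsurj : ∀ z : T, ∃ s : S, residue O' (algebraMap S O' s) = residue O' (algebraMap T O' z) := fun z => by
        obtain ⟨s, hs⟩ := Ideal.Quotient.mk_surjective (γ z)
        refine ⟨s, Ideal.Quotient.eq.2 ?_⟩
        rw [IsScalarTower.algebraMap_apply S T O']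
        have h0 : algebraMap T O' (algebraMap S T s - z) ∈ maximalIdeal O' := by
          rw [IsLocalization.AtPrime.to_map_mem_maximal_iff O' q]
          show γ (algebraMap S T s - z) = 0
          rw [map_sub, show γ (algebraMap S T s) = Ideal.Quotient.mk P s from hγ s, hs, sub_self]
        convert h0 using 1
        exact (eq_sub_of_add_eq (by rw [← map_add, sub_add_cancel])).symm
      obtain ⟨s₁, hs₁⟩ := hsurj a
      obtain ⟨s₂, hs₂⟩ := hsurj w
      refine ⟨residue O (algebraMap S O s₁) * (residue O (algebraMap S O s₂))⁻¹, ?_⟩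
      have key : ∀ s : S, ResidueField.map (R := O) (S := O') (algebraMap O O') (residue O (algebraMap S O s)) =
          residue O' (algebraMap S O' s) := fun s => congrArg (residue O') (IsScalarTower.algebraMap_apply S O O' s).symm
      rw [map_mul, map_inv₀, key, key, hs₁, hs₂, ← haw, map_mul, mul_assoc, mul_inv_cancel₀, mul_one]
      exact residue_ne_zero_iff_isUnit _ |>.2 (IsLocalization.map_units O' w)
    obtain ⟨ψ, hψ⟩ := GrothLib.GeomReg.exists_completion_map O O'
    let e : Curv2.cpl O ≃+* Curv2.cpl O' :=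
      RingEquiv.ofBijective ψ (GrothLib.AdicExtra.bijective_completion ψ hψ hm hk)
    obtain ⟨h1, h2⟩ := normal_cpl_of_isGRing hG hn q
    haveI := h1; haveI := h2
    exact ⟨e.toMulEquiv.isDomain, IsIntegrallyClosed.of_equiv e.symm⟩
  · let T := S ⊗[R] FractionRing R
    let Ms := Algebra.algebraMapSubmonoid S (nonZeroDivisors R)
    haveI : IsLocalization Ms T := inferInstance
    haveI : Algebra.FiniteType (FractionRing R) (FractionRing R ⊗[R] S) := inferInstance
    haveI : IsAdicComplete (maximalIdeal (FractionRing R)) (FractionRing R) := by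
      rw [IsLocalRing.maximalIdeal_eq_bot]
      infer_instance
    have hG0 : CAlg.IsGRing (FractionRing R ⊗[R] S) :=
      GrothLib.GRingFT.isGRing_of_finiteType (GrothLib.GRingComplete.isGRing_of_isAdicComplete (FractionRing R)) _
    let c : FractionRing R ⊗[R] S ≃+* T := (Algebra.TensorProduct.comm R _ _).toRingEquiv
    have hd : Disjoint (Ms : Set S) P := Set.disjoint_left.2 fun x hx hxP => by
      obtain ⟨r, hr, rfl⟩ := hx
      obtain ⟨n, v, rfl⟩ := IsDiscreteValuationRing.eq_unit_mul_pow_irreducible (nonZeroDivisors.ne_zero hr) hπ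
      rw [map_mul, map_pow] at hxP
      exact hP (‹P.IsPrime›.mem_of_pow_mem n ((P.unit_mul_mem_iff_mem (v.isUnit.map _)).1 hxP))
    let q : Ideal T := P.map (algebraMap S T)
    haveI hq : q.IsPrime := IsLocalization.isPrime_of_isPrime_disjoint Ms _ P ‹_› hd
    let q₀ : Ideal (FractionRing R ⊗[R] S) := q.comap c.toRingHom
    haveI : q₀.IsPrime := Ideal.comap_isPrime _ _
    haveI : IsLocalization.AtPrime (Localization.AtPrime q) P := by
      have h := IsLocalization.isLocalization_isLocalization_atPrime_isLocalization Ms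
        (Localization.AtPrime q) q
      simpa only [q, IsLocalization.comap_map_of_isPrime_disjoint Ms _ ‹P.IsPrime› hd] using h
    haveI : IsNoetherianRing (Localization.AtPrime q₀) :=
      haveI := hG0.1
      IsLocalization.isNoetherianRing q₀.primeCompl _ inferInstance
    let e₁ : Localization.AtPrime q₀ ≃+* Localization.AtPrime q :=
      IsLocalization.ringEquivOfRingEquiv (M := q₀.primeCompl) (T := q.primeCompl) (Localization.AtPrime q₀) (Localization.AtPrime q) c (by
        ext x
        simp only [Submonoid.mem_map]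
        constructor
        · rintro ⟨y, hy, rfl⟩; exact hy
        · intro hx
          exact ⟨c.symm x, fun h => hx (by simpa [q₀] using h), c.apply_symm_apply x⟩)
    let e₂ : Localization.AtPrime q ≃+* Localization.AtPrime P :=
      (IsLocalization.algEquiv P.primeCompl (Localization.AtPrime q) (Localization.AtPrime P)).toRingEquiv
    exact normal_cpl_congr (e₁.trans e₂) (normal_cpl_of_isGRing hG0 hgen q₀)

end DVR

end GrothLib.CplNormal29
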