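import Groth.Agent.Lib.CTensor.Ext
import Groth.Agent.Lib.AdicLim.Finite
import Groth.Agent.Lib.Hensel.Noetherian
import Groth.Agent.Lib.EssEtLoc.Frac
import Groth.Agent.Lib.NormalTensor.Criterion
import Mathlib.RingTheory.SimpleModule.InjectiveProjective

/-!
# Normality of completions passes to integrally closed subalgebras
-/

set_option autoImplicit false
set_option linter.all false

universe u

open IsLocalRing
open scoped TensorProduct nonZeroDivisors

noncomputable section

namespace GrothLib.CplNormal29

/-- Torsion-free finite modules over reduced Noetherian rings embed in free modules. -/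
theorem exists_injective_pi {B M : Type u} [CommRing B] [IsNoetherianRing B] [IsReduced B] [AddCommGroup M]
    [Module B M] [Module.Finite B M] (htf : ∀ σ ∈ B⁰, ∀ m : M, σ • m = 0 → m = 0) :
    ∃ (n : ℕ) (f : M →ₗ[B] (Fin n → B)), Function.Injective f := by
  classical
  let Q := FractionRing B
  haveI : IsArtinianRing Q := GrothLib.EssEtLoc.isArtinianRing_fractionRing B (minimalPrimes.finite_of_isNoetherianRing B)
  haveI : IsReduced Q := inferInstanceAs (IsReduced (Localization B⁰))
  haveI : IsSemisimpleRing Q := IsArtinianRing.isSemisimpleRing_of_isReduced Q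
  haveI : Module.Projective Q (Q ⊗[B] M) := Module.projective_of_isSemisimpleRing _ _
  obtain ⟨k, π, i, hπ, hi, -⟩ := Module.Finite.exists_comp_eq_id_of_projective Q (Q ⊗[B] M)
  let j : M →ₗ[B] (Fin k → Q) := (i.restrictScalars B).comp (TensorProduct.mk B Q M 1)
  have hj : Function.Injective j := by
    refine hi.comp ((injective_iff_map_eq_zero _).2 fun m hm => ?_)
    haveI : IsLocalizedModule B⁰ (TensorProduct.mk B Q M 1) :=
      (isLocalizedModule_iff_isBaseChange B⁰ Q _).2 (TensorProduct.isBaseChange B M Q)
    obtain ⟨σ, hσ⟩ := (IsLocalizedModule.eq_zero_iff B⁰ (TensorProduct.mk B Q M 1)).1 hm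
    exact htf σ σ.2 m hσ
  obtain ⟨T, hT⟩ := Module.Finite.fg_top (R := B) (M := M)
  obtain ⟨d, hd⟩ := IsLocalization.exist_integer_multiples B⁰
    (T ×ˢ (Finset.univ : Finset (Fin k))) (fun p => j p.1 p.2)
  let R0 : Submodule B (Fin k → Q) := Submodule.pi Set.univ fun _ => LinearMap.range (Algebra.linearMap B Q)
  have hmem : ∀ m, (d : B) • j m ∈ R0 := by
    have h : (⊤ : Submodule B M) ≤ R0.comap ((d : B) • j) := by
      rw [← hT, Submodule.span_le]
      intro m hm l _
      exact hd (m, l) (Finset.mem_product.2 ⟨hm, Finset.mem_univ l⟩)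
    exact fun m => h (Submodule.mem_top (x := m))
  choose g hg using fun (m : M) (l : Fin k) => hmem m l trivial
  have hQ := IsFractionRing.injective B Q
  refine ⟨k, { toFun := g, map_add' := fun a b => ?_, map_smul' := fun c a => ?_ }, fun a b h => hj ?_⟩
  · funext l
    refine hQ ?_
    show algebraMap B Q (g (a + b) l) = algebraMap B Q (g a l + g b l)
    rw [map_add, show algebraMap B Q (g (a + b) l) = _ from hg (a + b) l, show algebraMap B Q (g a l) = _ from hg a l,
      show algebraMap B Q (g b l) = _ from hg b l, map_add, smul_add]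
    rfl
  · funext l
    refine hQ ?_
    show algebraMap B Q (g (c • a) l) = algebraMap B Q (c * g a l)
    rw [map_mul, show algebraMap B Q (g (c • a) l) = _ from hg (c • a) l, show algebraMap B Q (g a l) = _ from hg a l,
      map_smul, smul_comm]
    exact Algebra.smul_def c _
  · funext l
    have hu : IsUnit (algebraMap B Q d) := IsLocalization.map_units Q d
    refine hu.mul_left_cancel ?_
    rw [← Algebra.smul_def, ← Algebra.smul_def]
    have ha : algebraMap B Q (g a l) = ((d : B) • j a) l := hg a l
    have hb : algebraMap B Q (g b l) = ((d : B) • j b) l := hg b l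
    exact ha.symm.trans ((congrArg (fun v : Fin k → B => algebraMap B Q (v l)) h).trans hb)

variable {B C : Type u} [CommRing B] [IsNoetherianRing B] [CommRing C] [Algebra B C] [Module.Finite B C] (I : Ideal B)

/-- The completion of a finite algebra is the base change to the completion. -/
theorem exists_ringEquiv : Nonempty (AdicCompletion (I.map (algebraMap B C)) C ≃+* AdicCompletion I B ⊗[B] C) := by
  haveI : IsNoetherianRing C := IsNoetherianRing.of_finite B C
  let Bh := AdicCompletion I B
  let J := I.map (algebraMap B C)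
  let Ch := AdicCompletion J C
  let T := Bh ⊗[B] C
  let Ih : Ideal Bh := I.map (algebraMap B Bh)
  haveI : IsNoetherianRing Bh := Hensel.isNoetherianRing_adicCompletion I (IsNoetherian.noetherian I)
  haveI : IsAdicComplete Ih Bh := (IsAdicComplete.map_algebraMap_iff _ _).mpr
    (AdicCompletion.isAdicComplete (IsNoetherian.noetherian I))
  let HT : Ideal T := Ih.map (algebraMap Bh T)
  haveI : IsAdicComplete HT T :=
    (IsAdicComplete.map_algebraMap_iff Ih T).mpr (GrothLib.AdicLim.isAdicComplete_of_finite Ih T)
  let HC : Ideal Ch := J.map (algebraMap C Ch)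
  haveI : IsAdicComplete HC Ch := (IsAdicComplete.map_algebraMap_iff _ _).mpr
    (AdicCompletion.isAdicComplete (IsNoetherian.noetherian J))
  have hJT : J.map (Algebra.TensorProduct.includeRight : C →ₐ[B] T).toRingHom ≤ HT := by
    rw [Ideal.map_map]
    show I.map _ ≤ (I.map (algebraMap B Bh)).map (algebraMap Bh T)
    rw [Ideal.map_map]
    refine le_of_eq (congrArg (Ideal.map · I) (RingHom.ext fun b => ?_))
    exact ((Algebra.TensorProduct.includeRight : C →ₐ[B] T).commutes b).trans
      (IsScalarTower.algebraMap_apply B Bh T b)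
  obtain ⟨F, hF⟩ := CTensor.exists_extend J HT (Algebra.TensorProduct.includeRight : C →ₐ[B] T).toRingHom hJT
  have hIC : I.map ((algebraMap C Ch).comp (algebraMap B C)) ≤ HC := (Ideal.map_map _ _).ge
  obtain ⟨G₀, hG₀⟩ := CTensor.exists_extend I HC ((algebraMap C Ch).comp (algebraMap B C)) hIC
  let G₁ : Bh →ₐ[B] Ch := { G₀ with commutes' := fun b => (hG₀ b).trans (IsScalarTower.algebraMap_apply B C Ch b).symm }
  let G₂ : C →ₐ[B] Ch := { (algebraMap C Ch) with commutes' := fun b => (IsScalarTower.algebraMap_apply B C Ch b).symm }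
  let G : T →ₐ[B] Ch := Algebra.TensorProduct.lift G₁ G₂ fun _ _ => Commute.all _ _
  have hGC : ∀ c, G ((1 : Bh) ⊗ₜ c) = algebraMap C Ch c := fun c => by
    rw [Algebra.TensorProduct.lift_tmul, map_one, one_mul]; rfl
  have hGF : G.toRingHom.comp F = RingHom.id Ch := by
    refine CTensor.completion_hom_ext J (IsNoetherian.noetherian J) HC (fun c => ?_) fun c hc => ?_
    · show G (F (algebraMap C Ch c)) = algebraMap C Ch c
      rw [hF]; exact hGC c
    · show G (F (algebraMap C Ch c)) ∈ HC
      rw [hF]; exact (hGC c).symm ▸ Ideal.mem_map_of_mem _ hc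
  have hFG₁ : (F.comp G.toRingHom).comp (algebraMap Bh T) = algebraMap Bh T := by
    refine CTensor.completion_hom_ext I (IsNoetherian.noetherian I) HT (fun b => ?_) fun b hb => ?_
    · show F (G (algebraMap Bh T (algebraMap B Bh b))) = _
      rw [← IsScalarTower.algebraMap_apply, AlgHom.commutes]
      show F (algebraMap C Ch (algebraMap B C b)) = _
      rw [hF]
      exact (Algebra.TensorProduct.includeRight : C →ₐ[B] T).commutes b
    · show F (G (algebraMap Bh T (algebraMap B Bh b))) ∈ HT
      rw [← IsScalarTower.algebraMap_apply, AlgHom.commutes]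
      show F (algebraMap C Ch (algebraMap B C b)) ∈ HT
      rw [hF]
      exact hJT (Ideal.mem_map_of_mem _ (Ideal.mem_map_of_mem _ hb))
  have hFG : F.comp G.toRingHom = RingHom.id T := by
    refine RingHom.ext fun t => ?_
    induction t using TensorProduct.induction_on with
    | zero => simp
    | tmul x c =>
      have hx := DFunLike.congr_fun hFG₁ x
      simp only [RingHom.comp_apply, RingHom.id_apply, AlgHom.toRingHom_eq_coe, RingHom.coe_coe] at hx ⊢
      rw [show x ⊗ₜ[B] c = algebraMap Bh T x * ((1 : Bh) ⊗ₜ c) by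
        rw [Algebra.TensorProduct.algebraMap_apply, Algebra.TensorProduct.tmul_mul_tmul, Algebra.algebraMap_self,
          RingHom.id_apply, mul_one, one_mul], map_mul, map_mul, hx, hGC, hF]
      rfl
    | add a b ha hb => simp only [map_add, ha, hb]
  exact ⟨RingEquiv.ofRingHom F G.toRingHom hFG hGF⟩

/-- A local divisibility: integral fractions over a normal ring. -/
theorem exists_mul_eq_of_eval {T : Type u} [CommRing T] (hT : EGA4.IsNormalRing T) (p : Polynomial T) (hp : p.Monic)
    (s b : T) (h : ∑ i ∈ Finset.range (p.natDegree + 1), p.coeff i * b ^ i * s ^ (p.natDegree - i) = 0) :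
    ∃ c, s * c = b := by
  suffices hb : b ∈ Ideal.span {s} by
    obtain ⟨c, hc⟩ := Ideal.mem_span_singleton'.1 hb
    exact ⟨c, by rw [mul_comm]; exact hc⟩
  refine Submodule.mem_of_localization_maximal (fun P hP => Localization.AtPrime P)
    (fun P hP => Algebra.linearMap T (Localization.AtPrime P)) b _ fun P hP => ?_
  obtain ⟨hd, hic⟩ := hT P
  let D := Localization.AtPrime P
  haveI : IsDomain D := hd
  haveI : IsIntegrallyClosed D := hic
  have hD : ∑ i ∈ Finset.range (p.natDegree + 1),
      algebraMap T D (p.coeff i) * algebraMap T D b ^ i * algebraMap T D s ^ (p.natDegree - i) = 0 := by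
    simpa only [map_sum, map_mul, map_pow, map_zero] using congrArg (algebraMap T D) h
  obtain ⟨d, hd'⟩ : ∃ d, algebraMap T D s * d = algebraMap T D b := by
    by_cases hs : algebraMap T D s = 0
    · refine ⟨0, ?_⟩
      rw [mul_zero]
      rw [hs, Finset.sum_eq_single p.natDegree (fun i hi hne => by
        rw [zero_pow (Nat.sub_ne_zero_of_lt (lt_of_le_of_ne (Nat.lt_succ_iff.1 (Finset.mem_range.1 hi)) hne)), mul_zero])
        (fun hn => absurd (Finset.self_mem_range_succ _) hn), Nat.sub_self, pow_zero, mul_one,
        hp.coeff_natDegree, map_one, one_mul] at hD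
      exact (eq_zero_of_pow_eq_zero hD).symm
    · have hs' : algebraMap D (FractionRing D) (algebraMap T D s) ≠ 0 := (map_ne_zero_iff _ (IsFractionRing.injective D (FractionRing D))).2 hs
      let x : (FractionRing D) := algebraMap D (FractionRing D) (algebraMap T D b) / algebraMap D (FractionRing D) (algebraMap T D s)
      have hint : IsIntegral D x := by
        refine ⟨p.map (algebraMap T D), hp.map _, ?_⟩
        rw [Polynomial.eval₂_map, Polynomial.eval₂_eq_sum_range]
        refine (mul_left_inj' (pow_ne_zero p.natDegree hs')).1 ?_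
        rw [zero_mul, Finset.sum_mul, ← map_zero (algebraMap D (FractionRing D)), ← hD, map_sum]
        refine Finset.sum_congr rfl fun i hi => ?_
        have hle : i ≤ p.natDegree := Nat.lt_succ_iff.1 (Finset.mem_range.1 hi)
        rw [map_mul, map_mul, map_pow, map_pow, RingHom.comp_apply]
        conv_lhs => rw [← Nat.sub_add_cancel hle, pow_add]
        simp only [x, div_pow]
        field_simp
      obtain ⟨d, hd'⟩ := IsIntegrallyClosed.isIntegral_iff.1 hint
      refine ⟨d, IsFractionRing.injective D (FractionRing D) ?_⟩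
      rw [map_mul, hd', mul_div_cancel₀ _ hs']
  obtain ⟨⟨v, w⟩, hvw⟩ := IsLocalization.surj P.primeCompl d
  refine ⟨s * v, Ideal.mem_span_singleton'.2 ⟨v, mul_comm _ _⟩, w, ?_⟩
  rw [IsLocalizedModule.mk'_eq_iff]
  show algebraMap T D (s * v) = (w : T) • algebraMap T D b
  rw [Algebra.smul_def, ← hd', map_mul, ← hvw]
  ring

/-- The completion of a normal subalgebra of a finite algebra with normal completion is normal. -/
theorem isNormalRing_completion_of_sub (hinj : Function.Injective (algebraMap B C)) (hB : EGA4.IsNormalRing B)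
    (hC : EGA4.IsNormalRing (AdicCompletion (I.map (algebraMap B C)) C)) :
    EGA4.IsNormalRing (AdicCompletion I B) := by
  obtain ⟨e⟩ := exists_ringEquiv (C := C) I
  let Bh := AdicCompletion I B
  let T := Bh ⊗[B] C
  haveI : IsNoetherianRing Bh := Hensel.isNoetherianRing_adicCompletion I (IsNoetherian.noetherian I)
  haveI : Module.Flat B Bh := AdicCompletion.flat_of_isNoetherian I
  have hT : EGA4.IsNormalRing T := GrothLib.Excellent.isNormalRing_congr e hC
  haveI := GrothLib.NormalTensor.isReduced_of_isNormalRing hT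
  haveI := GrothLib.NormalTensor.isReduced_of_isNormalRing hB
  have hBT : Function.Injective (algebraMap Bh T) :=
    Algebra.TensorProduct.includeLeft_injective (S := Bh) hinj
  haveI : IsReduced Bh := isReduced_of_injective _ hBT
  let Q := FractionRing Bh
  haveI : IsArtinianRing Q := GrothLib.EssEtLoc.isArtinianRing_fractionRing Bh (minimalPrimes.finite_of_isNoetherianRing Bh)
  haveI : IsReduced Q := inferInstanceAs (IsReduced (Localization Bh⁰))
  have hQ : EGA4.IsNormalRing Q := fun q _ => by
    haveI : IsArtinianRing (Localization.AtPrime q) := inferInstance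
    have hf : IsField (Localization.AtPrime q) := IsArtinianRing.isField_of_isReduced_of_isLocalRing _
    letI := hf.toField
    exact ⟨inferInstance, inferInstance⟩
  -- the torsion of the larger algebra and the complement
  let N : Submodule B C :=
    { carrier := {c | ∃ σ ∈ B⁰, ∃ b : B, σ • (c - algebraMap B C b) = 0}
      zero_mem' := ⟨1, one_mem _, 0, by simp⟩
      add_mem' := by
        rintro a c ⟨σ, hσ, x, hx⟩ ⟨τ, hτ, y, hy⟩
        refine ⟨σ * τ, mul_mem hσ hτ, x + y, ?_⟩
        rw [map_add, add_sub_add_comm, smul_add, mul_smul σ τ (c - _), hy, smul_zero, mul_comm σ τ, mul_smul, hx,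
          smul_zero, add_zero]
      smul_mem' := by
        rintro r a ⟨σ, hσ, x, hx⟩
        refine ⟨σ, hσ, r * x, ?_⟩
        rw [map_mul, ← Algebra.smul_def, ← smul_sub, smul_comm, hx, smul_zero] }
  haveI hBi : IsIntegrallyClosedIn B (FractionRing B) :=
    GrothLib.NormalTensor.isIntegrallyClosedIn_of_isNormalRing hB B⁰ le_rfl _
  have htf : ∀ σ ∈ B⁰, ∀ m : C ⧸ N, σ • m = 0 → m = 0 := by
    intro σ hσ m hm
    obtain ⟨c, rfl⟩ := Submodule.Quotient.mk_surjective N m
    rw [← Submodule.Quotient.mk_smul, Submodule.Quotient.mk_eq_zero] at hm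
    obtain ⟨τ, hτ, b, hb⟩ := hm
    rw [Submodule.Quotient.mk_eq_zero]
    -- `σ τ c = τ b` with `c` integral
    have hc : (σ * τ) • c = algebraMap B C (τ * b) := by
      rw [smul_sub, sub_eq_zero] at hb
      rw [map_mul, ← Algebra.smul_def τ, ← hb, ← mul_smul, mul_comm]
    obtain ⟨q, hqm, hq⟩ := Algebra.IsIntegral.isIntegral (R := B) c
    have hsum : ∑ i ∈ Finset.range (q.natDegree + 1), q.coeff i * (τ * b) ^ i * (σ * τ) ^ (q.natDegree - i) = 0 := by
      refine hinj ?_
      rw [map_zero, map_sum]
      rw [Polynomial.eval₂_eq_sum_range] at hq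
      have := congrArg (fun z => algebraMap B C ((σ * τ) ^ q.natDegree) * z) hq
      simp only [mul_zero, Finset.mul_sum] at this
      refine Eq.trans (Finset.sum_congr rfl fun i hi => ?_) this
      have hle : i ≤ q.natDegree := Nat.lt_succ_iff.1 (Finset.mem_range.1 hi)
      rw [map_mul, map_mul, map_pow, map_pow, ← hc, Algebra.smul_def, mul_pow, map_pow]
      conv_rhs => rw [← Nat.sub_add_cancel hle, pow_add]
      ring
    obtain ⟨β, hβ⟩ := exists_mul_eq_of_eval hB q hqm (σ * τ) (τ * b) hsum
    refine ⟨σ * τ, mul_mem hσ hτ, β, ?_⟩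
    rw [smul_sub, hc, Algebra.smul_def, ← map_mul, hβ, sub_self]
  obtain ⟨n, f, hf⟩ := exists_injective_pi htf
  haveI : IsIntegrallyClosedIn Bh Q := by
    refine ⟨IsFractionRing.injective Bh Q, fun {x} => ⟨fun hx => ?_, fun ⟨y, hy⟩ => hy ▸ isIntegral_algebraMap⟩⟩
    obtain ⟨b', ⟨s, hs⟩, rfl⟩ := IsLocalization.exists_mk'_eq Bh⁰ x
    obtain ⟨p, hpm, hp⟩ := hx
    let q := p.map (algebraMap Bh T)
    have hsum : ∑ i ∈ Finset.range (p.natDegree + 1), p.coeff i * b' ^ i * s ^ (p.natDegree - i) = 0 := by
      refine IsFractionRing.injective Bh Q ?_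
      rw [map_zero, map_sum]
      rw [Polynomial.eval₂_eq_sum_range] at hp
      have := congrArg (fun z => algebraMap Bh Q (s ^ p.natDegree) * z) hp
      simp only [mul_zero, Finset.mul_sum] at this
      refine Eq.trans (Finset.sum_congr rfl fun i hi => ?_) this
      have hle : i ≤ p.natDegree := Nat.lt_succ_iff.1 (Finset.mem_range.1 hi)
      rw [map_mul, map_mul, map_pow, map_pow, ← IsLocalization.mk'_spec Q b' (⟨s, hs⟩ : Bh⁰), mul_pow, map_pow]
      conv_rhs => rw [← Nat.sub_add_cancel hle, pow_add]
      ring
    haveI : Nontrivial T ∨ True := Or.inr trivial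
    obtain ⟨c, hc⟩ : ∃ c, algebraMap Bh T s * c = algebraMap Bh T b' := by
      by_cases hnt : Nontrivial T
      · refine exists_mul_eq_of_eval hT q (hpm.map _) _ _ ?_
        rw [hpm.natDegree_map (algebraMap Bh T)]
        have := congrArg (algebraMap Bh T) hsum
        rw [map_zero, map_sum] at this
        refine Eq.trans (Finset.sum_congr rfl fun i _ => ?_) this
        rw [Polynomial.coeff_map, map_mul, map_mul, map_pow, map_pow]
      · haveI := not_nontrivial_iff_subsingleton.1 hnt
        exact ⟨0, Subsingleton.elim _ _⟩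
    -- the image of `c` in the torsion-free quotient vanishes
    let φ : T →ₗ[Bh] Bh ⊗[B] (Fin n → B) := (f.comp N.mkQ).baseChange Bh
    have hφ1 : ∀ z : Bh, φ (algebraMap Bh T z) = 0 := fun z => by
      rw [Algebra.TensorProduct.algebraMap_apply, Algebra.algebraMap_self, RingHom.id_apply, LinearMap.baseChange_tmul]
      rw [show (f.comp N.mkQ) (1 : C) = 0 from by
        rw [LinearMap.comp_apply, show N.mkQ (1 : C) = 0 from
          (Submodule.Quotient.mk_eq_zero N).2 ⟨1, one_mem _, 1, by simp⟩, map_zero], TensorProduct.tmul_zero]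
    have hφc : φ c = 0 := by
      have h1 : s • φ c = 0 := by
        rw [← map_smul]
        exact (congrArg φ ((Algebra.smul_def s c).trans hc)).trans (hφ1 b')
      let E := TensorProduct.piScalarRight B Bh Bh (Fin n)
      refine E.injective ?_
      rw [map_zero]
      funext l
      have h2 := congrFun (congrArg E h1) l
      rw [map_smul, map_zero] at h2
      exact (mem_nonZeroDivisors_iff_right.1 hs _ ((mul_comm _ _).trans h2))
    have hker : c ∈ LinearMap.range (N.subtype.baseChange Bh) := by
      have hex : Function.Exact (N.subtype.baseChange Bh) ((N.mkQ).baseChange Bh) := by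
        have := Module.Flat.lTensor_exact Bh (LinearMap.exact_subtype_mkQ N)
        exact this
      refine (hex c).1 ?_
      refine Module.Flat.lTensor_preserves_injective_linearMap (M := Bh) f hf ?_
      have h3 : f.baseChange Bh ((N.mkQ).baseChange Bh c) = 0 := by
        rw [← LinearMap.comp_apply, ← LinearMap.baseChange_comp]
        exact hφc
      exact h3.trans (map_zero _).symm
    obtain ⟨z, hz⟩ := hker
    obtain ⟨σ, hσ, β, hβ⟩ : ∃ σ ∈ B⁰, ∃ β : Bh, (σ : B) • (N.subtype.baseChange Bh z - algebraMap Bh T β) = 0 := by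
      clear hz
      induction z using TensorProduct.induction_on with
      | zero => exact ⟨1, one_mem _, 0, by simp⟩
      | tmul y a =>
        obtain ⟨σ, hσ, b, hb⟩ := a.2
        refine ⟨σ, hσ, b • y, ?_⟩
        rw [LinearMap.baseChange_tmul, Algebra.TensorProduct.algebraMap_apply, Algebra.algebraMap_self, RingHom.id_apply,
          TensorProduct.smul_tmul, ← Algebra.algebraMap_eq_smul_one, ← TensorProduct.tmul_sub, ← TensorProduct.tmul_smul]
        rw [show σ • (N.subtype a - algebraMap B C b) = 0 from hb, TensorProduct.tmul_zero]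
      | add a c ha hc =>
        obtain ⟨σ, hσ, x, hx⟩ := ha
        obtain ⟨τ, hτ, y, hy⟩ := hc
        refine ⟨σ * τ, mul_mem hσ hτ, x + y, ?_⟩
        rw [map_add, map_add, add_sub_add_comm, smul_add, mul_smul σ τ (N.subtype.baseChange Bh c - _), hy, smul_zero,
          mul_comm σ τ, mul_smul, hx, smul_zero, add_zero]
    rw [hz] at hβ
    refine ⟨β, ?_⟩
    rw [IsLocalization.eq_mk'_iff_mul_eq, ← map_mul]
    refine congrArg (algebraMap Bh Q) ?_
    have hσB : algebraMap B Bh σ ∈ Bh⁰ := mem_nonZeroDivisors_iff_right.2 fun y hy => by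
      refine (Module.Flat.isSMulRegular_of_nonZeroDivisors (M := Bh) hσ) ?_
      show σ • y = σ • (0 : Bh)
      rw [smul_zero, Algebra.smul_def, mul_comm]
      exact hy
    refine sub_eq_zero.1 (mem_nonZeroDivisors_iff_right.1 hσB _ (hBT ?_))
    rw [map_mul, map_sub, map_mul, map_zero, ← hc, ← IsScalarTower.algebraMap_apply, mul_comm,
      ← Algebra.smul_def, mul_comm (algebraMap Bh T β) (algebraMap Bh T s), ← mul_sub, ← mul_smul_comm,
      ← neg_sub, smul_neg, hβ, neg_zero, mul_zero]
  exact GrothLib.NormalTensor.isNormalRing_of_isIntegrallyClosedIn Bh Q hQ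

end GrothLib.CplNormal29
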