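import Groth.Agent.Lib.CplNormal29.Analytic
import Groth.Agent.Lib.NormFinite29.Basic
import Groth.Agent.Lib.NormFib.Normal
import Groth.Prelude.Def_ModelsG

/-!
# Normalizations of models of geometrically normal varieties
-/

set_option autoImplicit false
set_option linter.all false
set_option backward.isDefEq.respectTransparency false

universe u

open CategoryTheory CategoryTheory.Limits AlgebraicGeometry TopologicalSpace IsLocalRing
open scoped TensorProduct

noncomputable section

namespace GrothLib.CplNormal29

variable {R : Type u} [CommRing R] [IsDomain R] [IsDiscreteValuationRing R]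

/-- The affine charts of the base change to a field are normal. -/
theorem isNormalRing_chart {V X : Scheme.{u}} (f : V ⟶ Spec (CommRingCat.of (FractionRing R)))
    (p : X ⟶ Spec (CommRingCat.of R)) (g : V ⟶ X)
    (hg : IsPullback g f p (Spec.map (CommRingCat.ofHom (algebraMap R (FractionRing R)))))
    (K' : Type u) [Field K'] [Algebra (FractionRing R) K'] [Algebra R K'] [IsScalarTower R (FractionRing R) K']
    (hn : Pi1.IsNormalScheme (pullback f (Spec.map (CommRingCat.ofHom (algebraMap (FractionRing R) K')))))
    {U : X.Opens} (hU : IsAffineOpen U) [Algebra R Γ(X, U)]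
    (halg : hU.fromSpec ≫ p = Spec.map (CommRingCat.ofHom (algebraMap R Γ(X, U)))) :
    EGA4.IsNormalRing (K' ⊗[R] Γ(X, U)) := by
  refine GrothLib.Excellent.isNormalRing_congr (Algebra.TensorProduct.comm R Γ(X, U) K').toRingEquiv ?_
  let s : Spec (CommRingCat.of K') ⟶ Spec (CommRingCat.of R) := Spec.map (CommRingCat.ofHom (algebraMap R K'))
  have hs : s = Spec.map (CommRingCat.ofHom (algebraMap (FractionRing R) K')) ≫
      Spec.map (CommRingCat.ofHom (algebraMap R (FractionRing R))) := by
    rw [← Spec.map_comp, ← CommRingCat.ofHom_comp, ← IsScalarTower.algebraMap_eq]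
  have h := ((IsPullback.of_hasPullback f (Spec.map (CommRingCat.ofHom (algebraMap (FractionRing R) K')))).flip.paste_vert
    hg.flip).flip
  rw [← hs] at h
  let Φ : pullback hU.fromSpec (pullback.fst p s) ≅ Spec (CommRingCat.of (Γ(X, U) ⊗[R] K')) :=
    pullbackRightPullbackFstIso p s hU.fromSpec ≪≫ pullback.congrHom halg rfl ≪≫ pullbackSpecIso R Γ(X, U) K'
  let j : Spec (CommRingCat.of (Γ(X, U) ⊗[R] K')) ⟶
      pullback f (Spec.map (CommRingCat.ofHom (algebraMap (FractionRing R) K'))) :=
    Φ.inv ≫ pullback.snd hU.fromSpec (pullback.fst p s) ≫ h.isoPullback.inv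
  haveI : IsOpenImmersion j := inferInstance
  intro P _
  obtain ⟨h1, h2⟩ := hn (j ⟨P, inferInstance⟩)
  haveI := h1
  haveI := h2
  let e : (pullback f (Spec.map (CommRingCat.ofHom (algebraMap (FractionRing R) K')))).presheaf.stalk
      (j ⟨P, inferInstance⟩) ≃+* Localization.AtPrime P :=
    (asIso (j.stalkMap ⟨P, inferInstance⟩)).commRingCatIsoToRingEquiv.trans
      (StructureSheaf.stalkIso (CommRingCat.of (Γ(X, U) ⊗[R] K')) ⟨P, inferInstance⟩).toRingEquiv.symm
  exact ⟨e.symm.toMulEquiv.isDomain, IsIntegrallyClosed.of_equiv e⟩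

theorem isReduced_of_isNormalRing {T : Type u} [CommRing T] (h : EGA4.IsNormalRing T) : IsReduced T :=
  isReduced_ofLocalizationMaximal T fun P _ => by
    haveI := (h P).1
    infer_instance

section

variable {A : Type u} [CommRing A] [IsDomain A] [Algebra R A] [Module.Flat R A] [Algebra.FiniteType R A]
  {L : Type u} [Field L] [Algebra A L] [IsFractionRing A L] [Algebra R L] [IsScalarTower R A L]

/-- Integral elements become elements of `A` after multiplication by a power of the uniformizer. -/
theorem exists_pow_smul_eq' (T : Type u) [CommRing T] [Algebra A T]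
    [IsLocalization (Algebra.algebraMapSubmonoid A (nonZeroDivisors R)) T] (hTn : EGA4.IsNormalRing T)
    {π : R} (hπ : Irreducible π) (x : L) (hx : IsIntegral A x) :
    ∃ (n : ℕ) (a : A), algebraMap R L π ^ n * x = algebraMap A L a := by
  haveI : FaithfulSMul R A := Module.IsTorsionFree.to_faithfulSMul
  let M := Algebra.algebraMapSubmonoid A (nonZeroDivisors R)
  have hM : M ≤ nonZeroDivisors A := by
    rintro _ ⟨r, hr, rfl⟩
    exact mem_nonZeroDivisors_of_ne_zero fun h0 => nonZeroDivisors.ne_zero hr
      (FaithfulSMul.algebraMap_injective R A (h0.trans (map_zero _).symm))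
  haveI : IsDomain T := IsLocalization.isDomain_of_le_nonZeroDivisors T hM
  have hunit : ∀ m : M, IsUnit (algebraMap A L m) := fun m => IsLocalization.map_units L (⟨m, hM m.2⟩ : nonZeroDivisors A)
  letI : Algebra T L := (IsLocalization.lift hunit : T →+* L).toAlgebra
  haveI : IsScalarTower A T L := IsScalarTower.of_algebraMap_eq fun a => (IsLocalization.lift_eq hunit a).symm
  haveI : IsFractionRing T L := IsFractionRing.isFractionRing_of_isDomain_of_isLocalization M T L
  haveI : IsIntegrallyClosed T :=
    IsIntegrallyClosed.of_localization_maximal fun P _ hP => (hTn P).2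
  obtain ⟨t, ht⟩ := IsIntegrallyClosed.isIntegral_iff.1 (hx.tower_top (A := T))
  obtain ⟨⟨a, m⟩, hm⟩ := IsLocalization.surj M t
  obtain ⟨r, hr, hrm⟩ := m.2
  obtain ⟨n, v, rfl⟩ := IsDiscreteValuationRing.eq_unit_mul_pow_irreducible (nonZeroDivisors.ne_zero hr) hπ
  refine ⟨n, algebraMap R A ↑v⁻¹ * a, ?_⟩
  have h1 := congrArg (algebraMap T L) hm
  rw [map_mul, ← IsScalarTower.algebraMap_apply, ← IsScalarTower.algebraMap_apply, ht] at h1
  have hv : algebraMap R L ↑v⁻¹ * algebraMap R L ↑v = 1 := by rw [← map_mul, Units.inv_mul, map_one]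
  rw [map_mul, ← h1, show ((a, m) : A × M).2.1 = (m : A) from rfl, ← hrm, ← IsScalarTower.algebraMap_apply,
    ← IsScalarTower.algebraMap_apply, map_mul, map_pow]
  linear_combination -(x * algebraMap R L π ^ n) * hv

theorem exists_pow_smul_eq (hK : EGA4.IsNormalRing (FractionRing R ⊗[R] A)) {π : R} (hπ : Irreducible π)
    (x : L) (hx : IsIntegral A x) : ∃ (n : ℕ) (a : A), algebraMap R L π ^ n * x = algebraMap A L a :=
  exists_pow_smul_eq' (A ⊗[R] FractionRing R)
    (GrothLib.Excellent.isNormalRing_congr (Algebra.TensorProduct.comm R (FractionRing R) A).toRingEquiv hK) hπ x hx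

/-- The normalisation of `A` has the same tensor product with every field over the fraction field. -/
theorem isNormalRing_tensor_closure (K' : Type u) [Field K'] [Algebra R K'] (hinj : Function.Injective (algebraMap R K'))
    (hK : EGA4.IsNormalRing (FractionRing R ⊗[R] A)) (hK' : EGA4.IsNormalRing (K' ⊗[R] A)) :
    EGA4.IsNormalRing (K' ⊗[R] integralClosure A L) := by
  obtain ⟨π, hπ⟩ := IsDiscreteValuationRing.exists_irreducible R
  haveI : Module.IsTorsionFree R K' := by
    haveI : FaithfulSMul R K' := (faithfulSMul_iff_algebraMap_injective R K').2 hinj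
    infer_instance
  haveI : Module.Flat R K' := inferInstance
  let ι : A →ₐ[R] integralClosure A L := IsScalarTower.toAlgHom R A (integralClosure A L)
  let m : K' ⊗[R] A →ₐ[R] K' ⊗[R] integralClosure A L := Algebra.TensorProduct.map (AlgHom.id R K') ι
  have hi : Function.Injective ι := fun a b h => IsFractionRing.injective A L (congrArg Subtype.val h)
  have hm : Function.Bijective m := by
    refine ⟨Module.Flat.lTensor_preserves_injective_linearMap (M := K') ι.toLinearMap hi, fun z => ?_⟩
    induction z using TensorProduct.induction_on with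
    | zero => exact ⟨0, map_zero m⟩
    | tmul c x =>
      obtain ⟨n, a, ha⟩ := exists_pow_smul_eq hK hπ (x : L) x.2
      have hne : algebraMap R K' π ^ n ≠ 0 := pow_ne_zero _ fun h => hπ.ne_zero (hinj (h.trans (map_zero _).symm))
      refine ⟨(c / algebraMap R K' π ^ n) ⊗ₜ a, ?_⟩
      have hxa : π ^ n • x = ι a := Subtype.ext (by
        rw [show ((π ^ n • x : integralClosure A L) : L) = π ^ n • (x : L) from rfl, Algebra.smul_def, map_pow, ha]
        rfl)
      show (c / algebraMap R K' π ^ n) ⊗ₜ[R] ι a = c ⊗ₜ[R] x
      rw [← hxa, ← TensorProduct.smul_tmul, Algebra.smul_def, map_pow, mul_div_cancel₀ _ hne]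
    | add a b ha hb =>
      obtain ⟨p, hp⟩ := ha
      obtain ⟨q, hq⟩ := hb
      exact ⟨p + q, by rw [map_add, hp, hq]⟩
  exact GrothLib.Excellent.isNormalRing_congr (RingEquiv.ofBijective m hm) hK'

theorem normal_closure (hK : EGA4.IsNormalRing (FractionRing R ⊗[R] A))
    (hH : EGA4.IsNormalRing (FractionRing (Curv2.cpl R) ⊗[R] A)) :
    Module.Finite A (integralClosure A L) ∧ ∀ (P : Ideal (integralClosure A L)) [P.IsPrime],
      IsDomain (Curv2.cpl (Localization.AtPrime P)) ∧ IsIntegrallyClosed (Curv2.cpl (Localization.AtPrime P)) := by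
  haveI := isDomain_cpl (R := R)
  haveI : IsReduced (FractionRing (Curv2.cpl R) ⊗[R] A) := isReduced_of_isNormalRing hH
  let φ : Curv2.cpl R ⊗[R] A →ₐ[R] FractionRing (Curv2.cpl R) ⊗[R] A :=
    Algebra.TensorProduct.map (IsScalarTower.toAlgHom R (Curv2.cpl R) _) (AlgHom.id R A)
  have hφ : Function.Injective φ := Module.Flat.rTensor_preserves_injective_linearMap (M := A)
    (IsScalarTower.toAlgHom R (Curv2.cpl R) (FractionRing (Curv2.cpl R))).toLinearMap
    (IsFractionRing.injective (Curv2.cpl R) (FractionRing (Curv2.cpl R)))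
  haveI : IsReduced (Curv2.cpl R ⊗[R] A) := isReduced_of_injective φ hφ
  haveI : IsReduced (Curv2.cpl R ⊗[R] L) :=
    GrothLib.N2.isReduced_tensor_of_isFractionRing (A := R) (B := Curv2.cpl R) (S := A) (L := L)
  haveI := GrothLib.NormFinite29.finite_integralClosure R (S := A) (L := L)
  refine ⟨inferInstance, fun P _ => ?_⟩
  haveI : Algebra.FiniteType R (integralClosure A L) := Algebra.FiniteType.trans (S := A) inferInstance inferInstance
  haveI : IsFractionRing (integralClosure A L) L := IsIntegralClosure.isFractionRing_of_finite_extension A L L _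
  haveI : IsIntegrallyClosed (integralClosure A L) := integralClosure.isIntegrallyClosedOfFiniteExtension L
  haveI : FaithfulSMul R A := Module.IsTorsionFree.to_faithfulSMul
  have hinjS : Function.Injective (algebraMap R (integralClosure A L)) := fun a b h =>
    FaithfulSMul.algebraMap_injective R A (IsFractionRing.injective A L (by
      rw [← IsScalarTower.algebraMap_apply, ← IsScalarTower.algebraMap_apply]
      exact congrArg Subtype.val h))
  haveI : FaithfulSMul R (integralClosure A L) := (faithfulSMul_iff_algebraMap_injective R _).2 hinjS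
  haveI : Module.IsTorsionFree R (integralClosure A L) := inferInstance
  haveI : Module.Flat R (integralClosure A L) := inferInstance
  have hinjH : Function.Injective (algebraMap R (FractionRing (Curv2.cpl R))) := by
    haveI : FaithfulSMul R (Curv2.cpl R) := inferInstance
    rw [IsScalarTower.algebraMap_eq R (Curv2.cpl R), RingHom.coe_comp]
    exact (IsFractionRing.injective _ _).comp (FaithfulSMul.algebraMap_injective R (Curv2.cpl R))
  exact normal_cpl_localization (isNormalRing_tensor_closure _ (IsFractionRing.injective R (FractionRing R)) hK hK)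
    (isNormalRing_tensor_closure _ hinjH hK hH) P

end

theorem normalization_of_model {V X : Scheme.{u}} (f : V ⟶ Spec (CommRingCat.of (FractionRing R)))
    (p : X ⟶ Spec (CommRingCat.of R))
    (hgn : ∀ (K' : Type u) [Field K'] [Algebra (FractionRing R) K'],
      Pi1.IsNormalScheme (pullback f (Spec.map (CommRingCat.ofHom (algebraMap (FractionRing R) K')))))
    (hX : Models.IsModel R X p V f) [IsIntegral X]
    [QuasiCompact (X.fromSpecStalk (genericPoint X))] [QuasiSeparated (X.fromSpecStalk (genericPoint X))] :
    IsFinite (Curv2.normalizationι X) ∧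
      ∀ x : ↥(Curv2.normalization X), IsDomain (Curv2.cpl ((Curv2.normalization X).presheaf.stalk x)) ∧
        IsIntegrallyClosed (Curv2.cpl ((Curv2.normalization X).presheaf.stalk x)) := by
  obtain ⟨hflat, hlft, -, g, hg⟩ := hX
  haveI := isDomain_cpl (R := R)
  haveI hfs : FaithfulSMul R (Curv2.cpl R) := by
    haveI : Module.FaithfullyFlat R (Curv2.cpl R) := Module.FaithfullyFlat.of_flat_of_isLocalHom
    infer_instance
  haveI : FaithfulSMul R (FractionRing (Curv2.cpl R)) := (faithfulSMul_iff_algebraMap_injective R _).2 (by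
    rw [IsScalarTower.algebraMap_eq R (Curv2.cpl R), RingHom.coe_comp]
    exact (IsFractionRing.injective _ _).comp (FaithfulSMul.algebraMap_injective R (Curv2.cpl R)))
  letI : Algebra (FractionRing R) (FractionRing (Curv2.cpl R)) := FractionRing.liftAlgebra R _
  have chart : ∀ {U : X.Opens} (hU : IsAffineOpen U) [Nonempty U],
      Module.Finite Γ(X, U) (integralClosure Γ(X, U) X.functionField) ∧
        ∀ (P : Ideal (integralClosure Γ(X, U) X.functionField)) [P.IsPrime],
          IsDomain (Curv2.cpl (Localization.AtPrime P)) ∧ IsIntegrallyClosed (Curv2.cpl (Localization.AtPrime P)) := by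
    intro U hU _
    letI : Algebra R Γ(X, U) := (Spec.preimage (hU.fromSpec ≫ p)).hom.toAlgebra
    have halg : hU.fromSpec ≫ p = Spec.map (CommRingCat.ofHom (algebraMap R Γ(X, U))) := (Spec.map_preimage _).symm
    haveI := functionField_isFractionRing_of_isAffineOpen X U hU
    letI : Algebra R X.functionField := ((algebraMap Γ(X, U) X.functionField).comp (algebraMap R Γ(X, U))).toAlgebra
    haveI : IsScalarTower R Γ(X, U) X.functionField := IsScalarTower.of_algebraMap_eq fun _ => rfl
    haveI : LocallyOfFiniteType (Spec.map (CommRingCat.ofHom (algebraMap R Γ(X, U)))) := halg ▸ inferInstance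
    haveI : Flat (Spec.map (CommRingCat.ofHom (algebraMap R Γ(X, U)))) := halg ▸ inferInstance
    haveI : Algebra.FiniteType R Γ(X, U) :=
      RingHom.finiteType_algebraMap.1 ((HasRingHomProperty.Spec_iff (P := @LocallyOfFiniteType)).1 inferInstance)
    haveI : Module.Flat R Γ(X, U) :=
      RingHom.flat_algebraMap_iff.1 ((HasRingHomProperty.Spec_iff (P := @Flat)).1 inferInstance)
    exact normal_closure (isNormalRing_chart f p g hg (FractionRing R) (hgn _) hU halg)
      (isNormalRing_chart f p g hg (FractionRing (Curv2.cpl R)) (hgn _) hU halg)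
  refine ⟨(isFinite_iff _).mpr ⟨inferInstance, fun U hU => ?_⟩, fun z => ?_⟩
  · by_cases hne : Nonempty U
    · haveI := functionField_isFractionRing_of_isAffineOpen X U hU
      let _ := NormFib.chartAlgebra (X := X) U
      obtain ⟨_, _, hic⟩ := NormFib.exists_chart hU
      haveI := (chart hU).1
      exact RingHom.finite_algebraMap.mpr (Module.Finite.equiv (IsIntegralClosure.equiv Γ(X, U)
        (integralClosure Γ(X, U) X.functionField) X.functionField Γ(Curv2.normalization X, NormFib.pre U)).toLinearEquiv)
    · have hUbot : U = ⊥ := TopologicalSpace.Opens.ext (Set.eq_empty_iff_forall_notMem.mpr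
        fun x hx => hne ⟨⟨x, hx⟩⟩)
      have hb : Curv2.normalizationι X ⁻¹ᵁ U = ⊥ := by rw [hUbot]; rfl
      have : Subsingleton Γ(Curv2.normalization X, Curv2.normalizationι X ⁻¹ᵁ U) :=
        CommRingCat.subsingleton_of_isTerminal ((Curv2.normalization X).sheaf.isTerminalOfEqEmpty hb)
      exact RingHom.Finite.of_surjective _ fun b => ⟨0, Subsingleton.elim _ _⟩
  · obtain ⟨_, ⟨U, hU, rfl⟩, hzU, -⟩ :=
      X.isBasis_affineOpens.exists_subset_of_mem_open (Set.mem_univ (Curv2.normalizationι X z)) isOpen_univ
    have hU : IsAffineOpen U := hU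
    have : Nonempty U := ⟨⟨_, hzU⟩⟩
    obtain ⟨hfin, hP⟩ := chart hU
    haveI := functionField_isFractionRing_of_isAffineOpen X U hU
    let _ := NormFib.chartAlgebra (X := X) U
    obtain ⟨_, _, hic⟩ := NormFib.exists_chart hU
    let W := NormFib.pre U
    let e₀ := (IsIntegralClosure.equiv Γ(X, U) Γ(Curv2.normalization X, W) X.functionField
      (integralClosure Γ(X, U) X.functionField)).toRingEquiv
    let _ := TopCat.Presheaf.algebra_section_stalk (Curv2.normalization X).presheaf (⟨z, hzU⟩ : W)
    haveI := (NormFib.isAffineOpen_pre hU).isLocalization_stalk ⟨z, hzU⟩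
    let Q := ((NormFib.isAffineOpen_pre hU).primeIdealOf ⟨z, hzU⟩).asIdeal
    let P : Ideal (integralClosure Γ(X, U) X.functionField) := Q.comap e₀.symm.toRingHom
    haveI : P.IsPrime := Ideal.comap_isPrime _ _
    let e : Localization.AtPrime P ≃+* (Curv2.normalization X).presheaf.stalk z :=
      IsLocalization.ringEquivOfRingEquiv (M := P.primeCompl) (T := Q.primeCompl) (Localization.AtPrime P)
        ((Curv2.normalization X).presheaf.stalk z) e₀.symm (by
          ext x
          simp only [Submonoid.mem_map]
          constructor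
          · rintro ⟨y, hy, rfl⟩; exact hy
          · intro hx
            exact ⟨e₀ x, fun h => hx ((e₀.symm_apply_apply x) ▸ h), e₀.symm_apply_apply x⟩)
    haveI : Algebra.FiniteType R R := inferInstance
    haveI : IsNoetherianRing (Localization.AtPrime P) := by
      letI : Algebra R Γ(X, U) := (Spec.preimage (hU.fromSpec ≫ p)).hom.toAlgebra
      have halg : hU.fromSpec ≫ p = Spec.map (CommRingCat.ofHom (algebraMap R Γ(X, U))) := (Spec.map_preimage _).symm
      haveI : LocallyOfFiniteType (Spec.map (CommRingCat.ofHom (algebraMap R Γ(X, U)))) := halg ▸ inferInstance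
      haveI : Algebra.FiniteType R Γ(X, U) :=
        RingHom.finiteType_algebraMap.1 ((HasRingHomProperty.Spec_iff (P := @LocallyOfFiniteType)).1 inferInstance)
      haveI : IsNoetherianRing Γ(X, U) := Algebra.FiniteType.isNoetherianRing R _
      haveI : IsNoetherianRing (integralClosure Γ(X, U) X.functionField) :=
        IsNoetherianRing.of_finite Γ(X, U) _
      exact IsLocalization.isNoetherianRing P.primeCompl _ inferInstance
    exact normal_cpl_congr e (hP P)

end GrothLib.CplNormal29
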